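import Mathlib
import Cfsg.Agent.Lib.GW.Basic
import Cfsg.Agent.Lib.GW.KPSLc
import Cfsg.Agent.Lib.Dickson.Max
import Cfsg.Agent.S2119

/-!
Pairs of commuting involutory automorphisms of `L₂(q)` and `A₇`.
-/

set_option autoImplicit false
set_option linter.unusedSectionVars false
set_option linter.style.haveILetI false

namespace CfsgLib.GW.App

open Subgroup Cfsg CfsgLib.DihSyl CfsgLib.Dickson CfsgLib.GW.KP SemidirectProduct
open scoped MatrixGroups

/-- the fixed points of an automorphism -/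
def fixA {X : Type*} [Group X] (α : MulAut X) : Subgroup X :=
  α.toMonoidHom.eqLocus (MonoidHom.id X)

theorem mem_fixA {X : Type*} [Group X] {α : MulAut X} {x : X} : x ∈ fixA α ↔ α x = x := Iff.rfl

/-- no four-group in `H` -/
def NoFour {X : Type*} [Group X] (H : Subgroup X) : Prop :=
  ∀ u ∈ H, ∀ v ∈ H, u * u = 1 → v * v = 1 → v * u = u * v → u = 1 ∨ v = 1 ∨ v = u

theorem noFour_of_cyclic {X : Type*} [Group X] [Finite X] {H : Subgroup X}
    (h : ∀ R : Sylow 2 H, IsCyclic R) : NoFour H := by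
  intro u hu v hv h1 h2 h3
  by_contra hc
  push Not at hc
  obtain ⟨h4, -⟩ := four_sup (a := (⟨u, hu⟩ : H)) (b := ⟨v, hv⟩)
    (ord_of_sq (Subtype.ext h1) fun e => hc.1 (congrArg Subtype.val e))
    (ord_of_sq (Subtype.ext h2) fun e => hc.2.1 (congrArg Subtype.val e))
    (fun e => hc.2.2 (congrArg Subtype.val e)) (mem_Hc.2 (Subtype.ext h3))
  haveI : Fact (Nat.Prime 2) := ⟨Nat.prime_two⟩
  obtain ⟨R, hR⟩ := (IsPGroup.of_card (n := 2) (p := 2) h4.card_four).exists_le_sylow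
  haveI := h R
  exact h4.not_isCyclic (isCyclic_of_le hR)

variable {F : Type*} [Field F] [Finite F]

theorem pgl_gen [IsSimpleGroup PSL(2, F)] (hodd : Odd (Nat.card F)) (h3 : 3 < Nat.card F)
    {t t' : PGL(2, F)} (ht : t * t = 1) (ht' : t' * t' = 1) (h1 : t ∉ (pslPGL F).range)
    (h1' : t' ∉ (pslPGL F).range) (hne : t ≠ t') (hc : t * t' = t' * t) :
    (pslPGL F).range ≤ (pslPGL F).range ⊓ Hc t ⊔ (pslPGL F).range ⊓ Hc t' := by
  obtain ⟨p, hp⟩ := CharP.exists F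
  haveI : Fact p.Prime := ⟨CharP.char_is_prime F p⟩
  have ht1 : t ≠ 1 := by rintro rfl; exact h1 (one_mem _)
  have ht1' : t' ≠ 1 := by rintro rfl; exact h1' (one_mem _)
  have h2 := two_ne_zero_of_odd_card hodd
  obtain ⟨x, y, r, w, h⟩ := exists_tor p h2 h3 ht ht1
  obtain ⟨x', y', r', w', h'⟩ := exists_tor p h2 h3 ht' ht1'
  have ho : ¬ Even (orderOf r) := fun e => h1 ((h.even_iff p ht ht1).1 e)
  have ho' : ¬ Even (orderOf r') := fun e => h1' ((h'.even_iff p ht' ht1').1 e)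
  set M := (pslPGL F).range ⊓ Hc t ⊔ (pslPGL F).range ⊓ Hc t' with hM
  have hr' : r' ∈ M := mem_sup_right (h'.isDih p ht' ht1').r_mem
  have hr2 : r' * r' ≠ 1 := fun e => by
    have h4 := Nat.le_of_dvd two_pos (orderOf_dvd_of_pow_eq_one (x := r') (by rw [pow_two, e]))
    have h5 := h'.orderOf_cases hodd h3 ht1'
    rw [Nat.not_even_iff_odd] at ho'
    obtain ⟨k, hk⟩ := ho'
    omega
  have hm : orderOf r * 2 = Nat.card (stab2 ⊤ x y) := by
    rw [← Nat.card_zpowers, h.gen]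
    rcases fix_two_cases ht1 h.ne h.tx h.ty with ⟨a, b, hab, rfl, rfl⟩ | h4
    · have e1 := card_stab2_emb (F := F) le_rfl hab
      have e2 := card_stab2_emb (L := ⊤) le_top hab
      rw [index_psl_odd hodd] at e1
      rw [index_top] at e2
      omega
    · have e1 := IrrPair.card_stab2 (F := F) le_rfl h3.le ⟨h4.1, h.ne, h4.2.2⟩
      have e2 := IrrPair.card_stab2 (L := ⊤) le_top h3.le ⟨h4.1, h.ne, h4.2.2⟩
      rw [index_psl_odd hodd] at e1
      rw [index_top] at e2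
      omega
  have hq := h.orderOf_cases hodd h3 ht1
  obtain ⟨k, hk⟩ := Nat.not_even_iff_odd.1 ho
  have hnorm : ∀ s : PGL(2, F), t * s = s * t → ∀ g ∈ (pslPGL F).range ⊓ Hc s,
      t * g * t⁻¹ ∈ (pslPGL F).range ⊓ Hc s := fun s hs g hg =>
    mem_inf.2 ⟨psl_normal.conj_mem g (mem_inf.1 hg).1 t,
      mul_mem (mul_mem (mem_Hc.2 hs) (mem_inf.1 hg).2) (inv_mem (mem_Hc.2 hs))⟩
  have htN : t ∈ normalizer (M : Set PGL(2, F)) := by
    refine mem_normalizer_fintype fun g hg => ?_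
    have : M ≤ M.comap (MulAut.conj t).toMonoidHom :=
      sup_le (fun g hg => mem_sup_left (hnorm t rfl g hg)) fun g hg => mem_sup_right (hnorm t' hc g hg)
    exact this hg
  have hle : pairStab ⊤ x y ≤ normalizer (M : Set PGL(2, F)) := fun g hg => by
    have h4 : g ∈ Hc t := mem_Hc.2 ((h.comm_iff p ht ht1).2 hg.2)
    by_cases h5 : g ∈ (pslPGL F).range
    · exact le_normalizer (mem_sup_left (mem_inf.2 ⟨h5, h4⟩))
    · have h6 : g * t⁻¹ ∈ M := mem_sup_left (mem_inf.2 ⟨by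
        rw [mul_mem_iff_of_index_two (index_psl_odd hodd), inv_mem_iff]; exact iff_of_false h5 h1,
        mul_mem h4 (inv_mem (self_mem_Hc t))⟩)
      simpa using mul_mem (le_normalizer h6) htN
  rcases over_pairStab p h.ne (mem_top w) h.wx h.wy (by omega) hle le_top with
    e | e | e | e | ⟨j, j1, j2, j3⟩
  · exfalso
    have h4 := (h.comm_iff p ht ht1).2 (e (le_normalizer hr')).2
    have h5 := h'.inverts p ht' ht1' ht ht1 hne hc
    rw [← h4, mul_inv_cancel_right] at h5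
    exact hr2 (mul_eq_one_iff_eq_inv.2 h5)
  · have hn : (M.comap (pslPGL F)).Normal := ⟨fun a ha g => by
      rw [mem_comap, map_mul, map_mul, map_inv]
      exact (mem_normalizer_iff.1 (e ⟨g, rfl⟩) _).1 ha⟩
    rcases hn.eq_bot_or_eq_top with e' | e'
    · exfalso
      obtain ⟨s, hs⟩ := h'.r_fix.1
      have : s ∈ M.comap (pslPGL F) := by rw [mem_comap, hs]; exact hr'
      rw [e', mem_bot] at this
      rw [this, map_one] at hs
      exact hr2 (by rw [← hs, one_mul])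
    · rintro _ ⟨s, rfl⟩
      exact (e' ▸ mem_top s : s ∈ M.comap (pslPGL F))
  · omega
  · omega
  · exfalso
    have : Nat.card F ≤ j + 2 := by omega
    nlinarith

theorem psl_eq [IsSimpleGroup PSL(2, F)] (hodd : Odd (Nat.card F)) (h3 : 3 < Nat.card F)
    {α β : MulAut PSL(2, F)} (hα : α * α = 1) (hβ : β * β = 1) (hc : α * β = β * α)
    (h1 : NoFour (fixA α)) (h2 : NoFour (fixA β)) (h : fixA α ⊔ fixA β ≠ ⊤) : α = β := by
  obtain ⟨p, hp⟩ := CharP.exists F
  haveI : Fact p.Prime := ⟨CharP.char_is_prime F p⟩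
  obtain ⟨Ψ, hΨ, hs⟩ := exists_psi (F := F)
  have hinj := pslPGL_injective (K := F)
  have hfix : ∀ (γ : MulAut PSL(2, F)) (s : PSL(2, F)),
      s ∈ fixA γ ↔ Ψ γ * inl (pslPGL F s) = inl (pslPGL F s) * Ψ γ := fun γ s => by
    have e : γ * MulAut.conj s = MulAut.conj (γ s) * γ := by ext; simp
    rw [← hs, ← map_mul, ← map_mul, e, map_mul, map_mul, mul_left_inj, hs, hs, inl_inj,
      hinj.eq_iff, mem_fixA]
  have key : ∀ γ : MulAut PSL(2, F), γ * γ = 1 → NoFour (fixA γ) → fixA γ ≠ ⊤ →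
      ∃ t, Ψ γ = inl t ∧ t * t = 1 ∧ t ∉ (pslPGL F).range := fun γ hγ hn hne => by
    have hu : Ψ γ * Ψ γ = 1 := by rw [← map_mul, hγ, map_one]
    have four : ∀ a ∈ (pslPGL F).range, ∀ b ∈ (pslPGL F).range, a * a = 1 → a ≠ 1 → b * b = 1 →
        b ≠ 1 → b ≠ a → b * a = a * b → Ψ γ * inl a = inl a * Ψ γ → Ψ γ * inl b = inl b * Ψ γ →
        False := by
      rintro _ ⟨a, rfl⟩ _ ⟨b, rfl⟩ a2 a1 b2 b1 hab hc ha hb
      rcases hn a ((hfix γ a).2 ha) b ((hfix γ b).2 hb) (hinj (by rw [map_mul, a2, map_one]))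
        (hinj (by rw [map_mul, b2, map_one])) (hinj (by rw [map_mul, map_mul, hc])) with
        rfl | rfl | rfl
      exacts [a1 (map_one _), b1 (map_one _), hab rfl]
    have hr : (Ψ γ).right = 1 := by
      by_contra hr
      obtain ⟨a, ha, b, hb, a2, a1, b2, b1, hab, hc, h1, h2⟩ :=
        exists_four_comm (two_ne_zero_of_odd_card hodd) hu hr
      exact four a ha b hb a2 a1 b2 b1 hab hc h1 h2
    have e := eq_inl hr
    set t := (Ψ γ).left
    have ht : t * t = 1 := by rwa [e, ← map_mul, ← map_one inl, inl_inj] at hu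
    refine ⟨t, e, ht, fun hm => ?_⟩
    have ht1 : t ≠ 1 := fun e' => hne (eq_top_iff.2 fun s _ => (hfix γ s).2 (by
      rw [e, e', map_one, one_mul, mul_one]))
    obtain ⟨x, y, r, w, h⟩ := exists_tor p (two_ne_zero_of_odd_card hodd) h3 ht ht1
    have hD := h.isDih p ht ht1
    have hw := mem_Hc.1 hD.s_mem.2
    refine four t hm w h.w_mem ht ht1 hD.ss (fun e => hD.notMem (e ▸ one_mem _))
      (fun e => hD.notMem (e ▸ h.mem_zpowers_iff.2 ⟨hm, h.tx, h.ty⟩)) hw (by rw [e]) ?_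
    rw [e, ← map_mul, ← map_mul, hw]
  obtain ⟨t, e, ht, hm⟩ := key α hα h1 fun e => h (by rw [e, top_sup_eq])
  obtain ⟨t', e', ht', hm'⟩ := key β hβ h2 fun e => h (by rw [e, sup_top_eq])
  by_contra hne
  have h4 := pgl_gen hodd h3 ht ht' hm hm' (fun e'' => hne (hΨ (by rw [e, e', e''])))
    (by rw [← inl_inj (φ := pglAut F), map_mul, map_mul, ← e, ← e', ← map_mul, hc, map_mul])
  have h5 : ∀ (γ : MulAut PSL(2, F)) (t : PGL(2, F)), Ψ γ = inl t →
      (pslPGL F).range ⊓ Hc t ≤ (fixA γ).map (pslPGL F) := by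
    rintro γ t e _ ⟨⟨s, rfl⟩, hs⟩
    exact ⟨s, (hfix γ s).2 (by rw [e, ← map_mul, ← map_mul, mem_Hc.1 hs]), rfl⟩
  refine h (map_injective hinj (le_antisymm (map_mono le_top) ?_))
  rw [← MonoidHom.range_eq_map, Subgroup.map_sup]
  exact h4.trans (sup_le_sup (h5 α t e) (h5 β t' e'))

open Equiv in
theorem s7_four (σ : Perm (Fin 7)) (hσ : σ * σ = 1) :
    ∃ u v : Perm (Fin 7), Perm.sign u = 1 ∧ Perm.sign v = 1 ∧ u * u = 1 ∧ v * v = 1 ∧
      v * u = u * v ∧ u ≠ 1 ∧ v ≠ 1 ∧ v ≠ u ∧ σ * u = u * σ ∧ σ * v = v * σ := by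
  have key : ∃ g : Perm (Fin 7), g * σ * g⁻¹ = 1 ∨ g * σ * g⁻¹ = swap 0 1 ∨
      g * σ * g⁻¹ = swap 0 1 * swap 2 3 ∨ g * σ * g⁻¹ = swap 0 1 * swap 2 3 * swap 4 5 := by
    have h1 := Perm.cycleType_of_pow_prime_eq_one (σ := σ) (p := 2) (by rw [pow_two, hσ])
    have h2 := σ.sum_cycleType_le
    rw [h1, Multiset.sum_replicate, Fintype.card_fin, smul_eq_mul] at h2
    generalize Multiset.card σ.cycleType = n at h1 h2
    have h3 : n ≤ 3 := by omega
    interval_cases n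
    · exact ⟨1, Or.inl (by rw [Perm.cycleType_eq_zero.1 h1]; simp)⟩
    · obtain ⟨g, hg⟩ := isConj_iff.1 (Perm.isConj_iff_cycleType_eq.2
        (h1.trans (by decide : _ = (swap (0 : Fin 7) 1).cycleType)))
      exact ⟨g, Or.inr (Or.inl hg)⟩
    · obtain ⟨g, hg⟩ := isConj_iff.1 (Perm.isConj_iff_cycleType_eq.2
        (h1.trans (by decide : _ = (swap (0 : Fin 7) 1 * swap 2 3).cycleType)))
      exact ⟨g, Or.inr (Or.inr (Or.inl hg))⟩
    · obtain ⟨g, hg⟩ := isConj_iff.1 (Perm.isConj_iff_cycleType_eq.2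
        (h1.trans (by decide : _ = (swap (0 : Fin 7) 1 * swap 2 3 * swap 4 5).cycleType)))
      exact ⟨g, Or.inr (Or.inr (Or.inr hg))⟩
  obtain ⟨g, hg⟩ := key
  have h1 : ∀ τ : Perm (Fin 7), g * σ * g⁻¹ * τ = τ * (g * σ * g⁻¹) →
      σ * (g⁻¹ * τ * g) = g⁻¹ * τ * g * σ := fun τ h => by
    calc σ * (g⁻¹ * τ * g) = g⁻¹ * (g * σ * g⁻¹ * τ) * g := by group
      _ = _ := by rw [h]; group
  have h2 : ∀ τ τ' : Perm (Fin 7), g⁻¹ * τ * g * (g⁻¹ * τ' * g) = g⁻¹ * (τ * τ') * g :=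
    fun τ τ' => by group
  refine ⟨g⁻¹ * (swap 0 1 * swap 2 3) * g, g⁻¹ * (swap 0 1 * swap 4 5) * g, by simp, by simp,
    ?_, ?_, ?_, ?_, ?_, ?_, h1 _ ?_, h1 _ ?_⟩
  · rw [h2, show swap (0 : Fin 7) 1 * swap 2 3 * (swap 0 1 * swap 2 3) = 1 by decide]; simp
  · rw [h2, show swap (0 : Fin 7) 1 * swap 4 5 * (swap 0 1 * swap 4 5) = 1 by decide]; simp
  · rw [h2, h2]; congr 2; decide
  · rw [Ne, mul_assoc, inv_mul_eq_one, right_eq_mul]; decide
  · rw [Ne, mul_assoc, inv_mul_eq_one, right_eq_mul]; decide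
  · rw [Ne, mul_left_inj, mul_right_inj]; decide
  · rcases hg with e | e | e | e <;> rw [e] <;> decide
  · rcases hg with e | e | e | e <;> rw [e] <;> decide

theorem a7_not_noFour {α : MulAut (alternatingGroup (Fin 7))} (hα : α * α = 1) :
    ¬ NoFour (fixA α) := fun h => by
  have hb := Cfsg.Agent.S2119.result 7 (by norm_num) (by norm_num)
  obtain ⟨σ, rfl⟩ := hb.2 α
  obtain ⟨u, v, hu, hv, u2, v2, hc, u1, v1, hne, h1, h2⟩ :=
    s7_four σ (hb.1 (by rw [map_mul, hα, map_one]))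
  rcases h ⟨u, Equiv.Perm.mem_alternatingGroup.2 hu⟩
    (Subtype.ext (mul_inv_eq_iff_eq_mul.2 h1)) ⟨v, Equiv.Perm.mem_alternatingGroup.2 hv⟩
    (Subtype.ext (mul_inv_eq_iff_eq_mul.2 h2)) (Subtype.ext u2) (Subtype.ext v2) (Subtype.ext hc) with
    e | e | e
  exacts [u1 (congrArg Subtype.val e), v1 (congrArg Subtype.val e), hne (congrArg Subtype.val e)]

theorem fixA_congr {X Y : Type*} [Group X] [Group Y] (e : X ≃* Y) (α : MulAut X) :
    fixA (MulAut.congr e α) = (fixA α).map e.toMonoidHom := by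
  ext y
  obtain ⟨x, rfl⟩ := e.surjective y
  rw [mem_fixA, mem_map_equiv, mem_fixA]
  simp

theorem NoFour.map {X Y : Type*} [Group X] [Group Y] (e : X ≃* Y) {H : Subgroup X} (h : NoFour H) :
    NoFour (H.map e.toMonoidHom) := by
  rintro _ ⟨u, hu, rfl⟩ _ ⟨v, hv, rfl⟩ h1 h2 h3
  rcases h u hu v hv (e.injective (by simpa using h1)) (e.injective (by simpa using h2))
    (e.injective (by simpa using h3)) with rfl | rfl | rfl
  exacts [Or.inl (map_one _), Or.inr (Or.inl (map_one _)), Or.inr (Or.inr rfl)]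

theorem known_eq {X : Type*} [Group X] [IsSimpleGroup X] (hX : Known X) {α β : MulAut X}
    (hα : α * α = 1) (hβ : β * β = 1) (hc : α * β = β * α) (h1 : NoFour (fixA α))
    (h2 : NoFour (fixA β)) (h : fixA α ⊔ fixA β ≠ ⊤) : α = β := by
  rcases hX with ⟨F, _, _, hodd, h3, ⟨e⟩⟩ | ⟨⟨e⟩⟩
  · haveI := e.symm.isSimpleGroup
    refine (MulAut.congr e).injective (psl_eq (by rwa [Nat.card_eq_fintype_card])
      (by rwa [Nat.card_eq_fintype_card]) (by rw [← map_mul, hα, map_one])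
      (by rw [← map_mul, hβ, map_one]) (by rw [← map_mul, hc, map_mul])
      (fixA_congr e α ▸ h1.map e) (fixA_congr e β ▸ h2.map e) fun h' => h ?_)
    rw [fixA_congr, fixA_congr, ← Subgroup.map_sup] at h'
    exact map_injective (f := e.toMonoidHom) e.injective
      (h'.trans (map_top_of_surjective _ e.surjective).symm)
  · exact absurd (fixA_congr e α ▸ h1.map e)
      (a7_not_noFour (by rw [← map_mul, hα, map_one]))

end CfsgLib.GW.App
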